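import Mathlib

/-!
# The subgroup generated by derangements
-/

set_option autoImplicit false

namespace CfsgLib.Char

open MulAction

section

variable {G : Type*} [Group G] [Finite G] {Ω : Type*} [MulAction G Ω] [Finite Ω]

/-- The closure of the derangements. -/
abbrev derangementSubgroup (G : Type*) [Group G] (Ω : Type*) [MulAction G Ω] : Subgroup G :=
  Subgroup.closure {g : G | ∀ ω : Ω, g • ω ≠ ω}

theorem one_le_card_fixedBy_of_notMem {g : G} (hg : g ∉ derangementSubgroup G Ω) :
    1 ≤ Nat.card (fixedBy Ω g) := by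
  by_contra h
  push Not at h
  refine hg (Subgroup.subset_closure fun ω hω => ?_)
  have h0 : Nat.card (fixedBy Ω g) = 0 := by omega
  rcases Nat.card_eq_zero.1 h0 with h1 | h1
  · exact h1.false ⟨ω, hω⟩
  · exact h1.not_finite (Subtype.finite)

/-- Burnside counting with `Nat.card`. -/
theorem sum_natCard_fixedBy (H : Type*) [Group H] [Fintype H] (Y : Type*) [MulAction H Y] [Finite Y] :
    ∑ h : H, Nat.card (fixedBy Y h) = Nat.card (orbitRel.Quotient H Y) * Nat.card H := by
  classical
  haveI := Fintype.ofFinite Y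
  haveI := Fintype.ofFinite (orbitRel.Quotient H Y)
  simp only [Nat.card_eq_fintype_card]
  exact sum_card_fixedBy_eq_card_orbits_mul_card_group H Y

theorem card_fixedBy_prod (g : G) :
    Nat.card (fixedBy (Ω × Ω) g) = Nat.card (fixedBy Ω g) * Nat.card (fixedBy Ω g) := by
  rw [← Nat.card_prod]
  exact Nat.card_congr
    { toFun := fun x => (⟨x.1.1, congrArg Prod.fst x.2⟩, ⟨x.1.2, congrArg Prod.snd x.2⟩)
      invFun := fun x => ⟨(x.1.1, x.2.1), Prod.ext x.1.2 x.2.2⟩
      left_inv := fun _ => rfl
      right_inv := fun _ => rfl }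

theorem derangementSubgroup_transitive [Nonempty Ω] (htr : IsPretransitive G Ω) :
    IsPretransitive (derangementSubgroup G Ω) Ω ∧
      ∀ g : G, g ∉ derangementSubgroup G Ω → Nat.card (fixedBy Ω g) = 1 := by
  classical
  haveI := Fintype.ofFinite G
  set D := derangementSubgroup G Ω with hD
  haveI := Fintype.ofFinite D
  haveI := htr
  have h1 := sum_natCard_fixedBy G Ω
  have hone : Nat.card (orbitRel.Quotient G Ω) = 1 := by
    haveI : Subsingleton (orbitRel.Quotient G Ω) :=
      (pretransitive_iff_subsingleton_quotient G Ω).1 htr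
    haveI : Nonempty (orbitRel.Quotient G Ω) := ⟨Quotient.mk'' (Classical.arbitrary Ω)⟩
    exact Nat.card_unique
  rw [hone, one_mul, Nat.card_eq_fintype_card,
    ← Finset.sum_filter_add_sum_filter_not Finset.univ (fun g => g ∈ D)] at h1
  have h2 := sum_natCard_fixedBy D Ω
  have h3 : ∑ g ∈ Finset.univ.filter (fun g => g ∈ D), Nat.card (fixedBy Ω g) =
      Nat.card (orbitRel.Quotient D Ω) * Nat.card D := by
    rw [← h2, Finset.sum_subtype _ (p := fun g => g ∈ D) (fun g => by simp) (fun g => Nat.card (fixedBy Ω g))]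
    rfl
  have h4 : ∀ g ∈ Finset.univ.filter (fun g => g ∉ D), 1 ≤ Nat.card (fixedBy Ω g) := fun g hg =>
    one_le_card_fixedBy_of_notMem (Finset.mem_filter.1 hg).2
  have h5 := Finset.sum_le_sum h4
  rw [Finset.sum_const, smul_eq_mul, mul_one] at h5
  have h6 : Nat.card D + (Finset.univ.filter (fun g => g ∉ D)).card = Fintype.card G := by
    rw [Nat.card_eq_fintype_card, Fintype.card_subtype, Finset.card_filter_add_card_filter_not]
    rfl
  haveI : Nonempty (orbitRel.Quotient D Ω) := ⟨Quotient.mk'' (Classical.arbitrary Ω)⟩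
  have h7 : 1 ≤ Nat.card (orbitRel.Quotient D Ω) := Nat.card_pos
  have h8 : 1 ≤ Nat.card D := Nat.card_pos
  have h9 : Nat.card D ≤ Nat.card (orbitRel.Quotient D Ω) * Nat.card D := Nat.le_mul_of_pos_left _ h7
  have h10 : Nat.card (orbitRel.Quotient D Ω) * Nat.card D = 1 * Nat.card D := by
    rw [one_mul]; omega
  have h11 : Nat.card (orbitRel.Quotient D Ω) = 1 := Nat.eq_of_mul_eq_mul_right h8 h10
  refine ⟨(pretransitive_iff_subsingleton_quotient D Ω).2 (Nat.card_eq_one_iff_unique.1 h11).1, ?_⟩
  intro g hg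
  have h12 : ∑ g ∈ Finset.univ.filter (fun g => g ∉ D), 1 =
      ∑ g ∈ Finset.univ.filter (fun g => g ∉ D), Nat.card (fixedBy Ω g) := by
    rw [Finset.sum_const, smul_eq_mul, mul_one]; omega
  exact ((Finset.sum_eq_sum_iff_of_le h4).1 h12 g (by simp [hg])).symm

/-- The rank formula for the subgroup generated by derangements. -/
theorem derangementSubgroup_rank [Nonempty Ω] (htr : IsPretransitive G Ω) :
    Nat.card (orbitRel.Quotient (derangementSubgroup G Ω) (Ω × Ω)) - 1 =
      (Nat.card (orbitRel.Quotient G (Ω × Ω)) - 1) * (derangementSubgroup G Ω).index := by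
  classical
  haveI := Fintype.ofFinite G
  obtain ⟨-, hfix⟩ := derangementSubgroup_transitive (Ω := Ω) htr
  set D := derangementSubgroup G Ω with hD
  haveI := Fintype.ofFinite D
  have h1 := sum_natCard_fixedBy G (Ω × Ω)
  rw [← Finset.sum_filter_add_sum_filter_not Finset.univ (fun g => g ∈ D)] at h1
  have h3 : ∑ g ∈ Finset.univ.filter (fun g => g ∈ D), Nat.card (fixedBy (Ω × Ω) g) =
      Nat.card (orbitRel.Quotient D (Ω × Ω)) * Nat.card D := by
    rw [← sum_natCard_fixedBy D (Ω × Ω),
      Finset.sum_subtype _ (p := fun g => g ∈ D) (fun g => by simp) (fun g => Nat.card (fixedBy (Ω × Ω) g))]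
    rfl
  have h4 : ∑ g ∈ Finset.univ.filter (fun g => g ∉ D), Nat.card (fixedBy (Ω × Ω) g) =
      (Finset.univ.filter (fun g => g ∉ D)).card := by
    rw [Finset.card_eq_sum_ones]
    exact Finset.sum_congr rfl fun g hg => by
      rw [card_fixedBy_prod, hfix g (Finset.mem_filter.1 hg).2]
  have h6 : Nat.card D + (Finset.univ.filter (fun g => g ∉ D)).card = Fintype.card G := by
    rw [Nat.card_eq_fintype_card, Fintype.card_subtype, Finset.card_filter_add_card_filter_not]
    rfl
  rw [h3, h4] at h1
  set s := Nat.card (orbitRel.Quotient D (Ω × Ω))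
  set r := Nat.card (orbitRel.Quotient G (Ω × Ω))
  have h8 : Nat.card D * D.index = Nat.card G := D.card_mul_index
  rw [Nat.card_eq_fintype_card (α := G)] at h1 h8
  apply Nat.eq_of_mul_eq_mul_right (Nat.card_pos (α := D))
  rw [Nat.mul_assoc, mul_comm D.index, h8, Nat.sub_mul, Nat.sub_mul, one_mul, one_mul]
  omega

end

end CfsgLib.Char
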