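import Mathlib
import Cfsg.Prelude.Def_Transfer

/-!
# Automorphisms fixing a maximal abelian subgroup, involutory automorphisms with few fixed points
-/

set_option autoImplicit false
set_option linter.style.haveILetI false

namespace CfsgLib.Char

theorem orderOf_aut_of_fix_maximal_abelian {Q : Type*} [Group Q] [Finite Q] {p : ℕ} [Fact p.Prime]
    (hQ : Cfsg.IsExtraspecial p Q) (α : MulAut Q) (A : Subgroup Q) (hA : IsMulCommutative A)
    (hmax : ∀ B : Subgroup Q, A ≤ B → IsMulCommutative B → B = A) (hfix : ∀ a ∈ A, α a = a) :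
    ∃ k : ℕ, orderOf α = p ^ k := by
  classical
  have hcA : ∀ a ∈ A, ∀ b ∈ A, a * b = b * a := fun a ha b hb =>
    congrArg Subtype.val (hA.is_comm.comm (⟨a, ha⟩ : A) ⟨b, hb⟩)
  -- an element centralizing `A` lies in `A`
  have hself : ∀ c : Q, (∀ a ∈ A, c * a = a * c) → c ∈ A := by
    intro c hc
    let B := Subgroup.closure (insert c (A : Set Q))
    have hcomm : IsMulCommutative B := by
      refine Subgroup.isMulCommutative_closure ?_
      rintro x (rfl | hx) y (rfl | hy)
      exacts [rfl, hc y hy, (hc x hx).symm, hcA x hx y hy]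
    rw [← hmax B (fun a ha => Subgroup.subset_closure (Set.mem_insert_of_mem c ha)) hcomm]
    exact Subgroup.subset_closure (Set.mem_insert c _)
  have hZA : Subgroup.center Q ≤ A := fun z hz =>
    hself z fun a _ => (Subgroup.mem_center_iff.1 hz a).symm
  have hnorm : ∀ x a : Q, a ∈ A → x * a * x⁻¹ ∈ A := by
    intro x a ha
    have hc : x * a * x⁻¹ * a⁻¹ ∈ A := hZA (by
      rw [← hQ.1.2.2, commutator_def]
      exact Subgroup.commutator_mem_commutator (Subgroup.mem_top x) (Subgroup.mem_top a))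
    simpa using mul_mem hc ha
  have hd : ∀ x : Q, x⁻¹ * α x ∈ A := by
    intro x
    refine hself _ fun a ha => ?_
    have h1 := hfix _ (hnorm x a ha)
    rw [map_mul, map_mul, map_inv, hfix a ha] at h1
    have h2 : α x * a = x * a * x⁻¹ * α x := by rw [← h1]; group
    rw [mul_assoc, h2]; group
  have hpow : ∀ (j : ℕ) (x : Q), (α ^ j) x = x * (x⁻¹ * α x) ^ j := by
    intro j x
    induction j with
    | zero => simp
    | succ j ih =>
      rw [pow_succ', MulAut.mul_apply, ih, map_mul, hfix _ (pow_mem (hd x) j), pow_succ', ← mul_assoc,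
        mul_inv_cancel_left]
  obtain ⟨n, hn⟩ := IsPGroup.iff_card.1 hQ.1.1
  have hone : α ^ (p ^ n) = 1 := by
    ext x
    rw [hpow, ← hn, pow_card_eq_one', mul_one]
    rfl
  obtain ⟨k, -, hk⟩ := (Nat.dvd_prime_pow Fact.out).1 (orderOf_dvd_of_pow_eq_one hone)
  exact ⟨k, hk⟩

section Invol

variable {H : Type*} [Group H] [Finite H] {γ : MulAut H}

theorem invol_aut_apply_apply (hγ : orderOf γ = 2) (h : H) : γ (γ h) = h := by
  have := pow_orderOf_eq_one γ
  rw [hγ, pow_two] at this
  rw [← MulAut.mul_apply, this]; rfl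

/-- A fixed-point-free involutory automorphism inverts a `γ`-invariant subgroup. -/
theorem invol_fpf_inverts (hγ : orderOf γ = 2) (hfree : ∀ h : H, γ h = h → h = 1) (h : H) :
    γ h = h⁻¹ := by
  have hinj : Function.Injective (fun x : H => x⁻¹ * γ x) := by
    intro x y hxy
    refine (mul_inv_eq_one.1 (hfree (x * y⁻¹) ?_))
    simp only at hxy
    rw [map_mul, map_inv, show γ x = x * (y⁻¹ * γ y) by rw [← hxy, mul_inv_cancel_left]]
    group
  obtain ⟨x, rfl⟩ := (Finite.injective_iff_surjective.1 hinj) h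
  simp [invol_aut_apply_apply hγ]

theorem invol_comm_of_inverts (hinv : ∀ h : H, γ h = h⁻¹) (a b : H) : a * b = b * a := by
  have h := hinv (a⁻¹ * b⁻¹)
  rw [map_mul, hinv, hinv, inv_inv, inv_inv, mul_inv_rev, inv_inv, inv_inv] at h
  exact h

theorem invol_two_fixed_points (hγ : orderOf γ = 2) (hcard : Nat.card {h : H // γ h = h} = 2)
    (M : Subgroup H) (hM : M.index = 2) :
    ∃ A : Subgroup H, A.index = 2 ∧ IsMulCommutative A ∧ (∀ a ∈ A, γ a ∈ A) ∧ ∀ a ∈ A, γ a = a⁻¹ := by
  classical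
  -- a `γ`-invariant subgroup of index two
  obtain ⟨A, hA, hAinv⟩ : ∃ A : Subgroup H, A.index = 2 ∧ ∀ a, a ∈ A ↔ γ a ∈ A := by
    by_cases hinv : ∀ a, a ∈ M ↔ γ a ∈ M
    · exact ⟨M, hM, hinv⟩
    · push Not at hinv
      have hmul : ∀ a b : H, a * b ∈ M ↔ (a ∈ M ↔ b ∈ M) := fun a b => Subgroup.mul_mem_iff_of_index_two hM
      let A : Subgroup H :=
        { carrier := {h | h ∈ M ↔ γ h ∈ M}
          one_mem' := by simp
          mul_mem' := fun {a b} ha hb => by
            simp only [Set.mem_setOf_eq, map_mul, hmul] at ha hb ⊢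
            tauto
          inv_mem' := fun {a} ha => by simpa using ha }
      refine ⟨A, ?_, fun a => ?_⟩
      · obtain ⟨a, ha⟩ := hinv
        rw [Subgroup.index_eq_two_iff]
        refine ⟨a, fun b => ?_⟩
        show Xor' (b * a ∈ M ↔ γ (b * a) ∈ M) (b ∈ M ↔ γ b ∈ M)
        simp only [Xor', map_mul, hmul]
        tauto
      · show (a ∈ M ↔ γ a ∈ M) ↔ (γ a ∈ M ↔ γ (γ a) ∈ M)
        rw [invol_aut_apply_apply hγ]
        tauto
  -- the map `h ↦ h⁻¹ γ h` has image `A`
  have hmem : ∀ h : H, h⁻¹ * γ h ∈ A := fun h => by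
    rw [Subgroup.mul_mem_iff_of_index_two hA, inv_mem_iff]
    exact hAinv h
  haveI := Fintype.ofFinite H
  set f : H → H := fun h => h⁻¹ * γ h with hf
  have hfib : ∀ y ∈ (Finset.univ : Finset H).image f, ((Finset.univ : Finset H).filter (fun h => f h = y)).card ≤ 2 := by
    intro y hy
    obtain ⟨x, -, rfl⟩ := Finset.mem_image.1 hy
    rw [← hcard, Nat.card_eq_fintype_card, ← Fintype.card_coe]
    refine Fintype.card_le_of_injective
      (fun z => (⟨(z : H) * x⁻¹, ?_⟩ : {h : H // γ h = h})) ?_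
    · have hz : (z : H)⁻¹ * γ z = x⁻¹ * γ x := (Finset.mem_filter.1 z.2).2
      have h1 : γ (z : H) = z * (x⁻¹ * γ x) := by rw [← hz, mul_inv_cancel_left]
      rw [map_mul, map_inv, h1]; group
    · intro z w hzw
      exact Subtype.ext (mul_right_cancel (congrArg Subtype.val hzw))
  have hle := Finset.card_le_mul_card_image (Finset.univ : Finset H) 2 hfib
  have hsub : (Finset.univ : Finset H).image f ⊆ (A : Set H).toFinset := fun y hy => by
    obtain ⟨x, -, rfl⟩ := Finset.mem_image.1 hy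
    simpa using hmem x
  have hcA : (A : Set H).toFinset.card * 2 = Fintype.card H := by
    rw [Set.toFinset_card, ← Nat.card_eq_fintype_card, ← Nat.card_eq_fintype_card, ← hA]
    exact A.card_mul_index
  have heq := Finset.eq_of_subset_of_card_le hsub (by rw [Finset.card_univ] at hle; omega)
  have hinv : ∀ a ∈ A, γ a = a⁻¹ := by
    intro a ha
    have : a ∈ (Finset.univ : Finset H).image f := heq ▸ Set.mem_toFinset.2 ha
    obtain ⟨x, -, rfl⟩ := Finset.mem_image.1 this
    simp [hf, invol_aut_apply_apply hγ]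
  refine ⟨A, hA, ⟨⟨fun a b => Subtype.ext ?_⟩⟩, fun a ha => (hAinv a).1 ha, hinv⟩
  have h := hinv _ (mul_mem (inv_mem a.2) (inv_mem b.2))
  rw [map_mul, hinv _ (inv_mem a.2), hinv _ (inv_mem b.2)] at h
  simpa using h

end Invol

end CfsgLib.Char
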