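import Mathlib

/-!
# Elementary facts on transitive groups of fixity `k`
-/

set_option autoImplicit false
set_option linter.style.haveILetI false

namespace CfsgLib.Char

open MulAction
open scoped Pointwise

variable {G : Type*} [Group G] [Finite G] {Ω : Type*} [Finite Ω] [MulAction G Ω] [FaithfulSMul G Ω]

theorem fixity_center_dvd (htr : IsPretransitive G Ω) {g : G} :
    Nat.card (Subgroup.center G) ∣ Nat.card (fixedBy Ω g) := by
  classical
  haveI := htr
  letI inst : MulAction (Subgroup.center G) (fixedBy Ω g) :=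
    { smul := fun z x => ⟨(z : G) • (x : Ω), by
        show g • (z : G) • (x : Ω) = _
        rw [← mul_smul, Subgroup.mem_center_iff.1 z.2 g, mul_smul, x.2]⟩
      one_smul := fun x => Subtype.ext (one_smul G (x : Ω))
      mul_smul := fun y z x => Subtype.ext (mul_smul (y : G) (z : G) (x : Ω)) }
  have hfree : ∀ x : fixedBy Ω g, Nat.card (orbit (Subgroup.center G) x) = Nat.card (Subgroup.center G) := by
    intro x
    refine Nat.card_congr (Equiv.ofBijective (fun z : Subgroup.center G => (⟨z • x, mem_orbit x z⟩ : orbit (Subgroup.center G) x))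
      ⟨fun y z hyz => ?_, fun w => ?_⟩).symm
    · have h1 : (y : G) • (x : Ω) = (z : G) • (x : Ω) :=
        congrArg (fun w : orbit (Subgroup.center G) x => ((w : fixedBy Ω g) : Ω)) hyz
      refine Subtype.ext (eq_of_smul_eq_smul (α := Ω) fun ω => ?_)
      obtain ⟨u, rfl⟩ := exists_smul_eq G (x : Ω) ω
      rw [← mul_smul, ← mul_smul, ← Subgroup.mem_center_iff.1 y.2 u, ← Subgroup.mem_center_iff.1 z.2 u,
        mul_smul, mul_smul, h1]
    · obtain ⟨w, z, rfl⟩ := w
      exact ⟨z, rfl⟩
  haveI := Fintype.ofFinite (orbitRel.Quotient (Subgroup.center G) (fixedBy Ω g))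
  rw [Nat.card_congr (selfEquivSigmaOrbits (Subgroup.center G) (fixedBy Ω g)), Nat.card_sigma]
  exact Finset.dvd_sum fun q _ => (hfree q.out).symm ▸ dvd_rfl

theorem two_dvd_card_of_fixity_two (htr : IsPretransitive G Ω)
    (hfix : ∀ g : G, g ≠ 1 → Nat.card (fixedBy Ω g) ≤ 2)
    {g : G} (hg : g ≠ 1) (h2 : Nat.card (fixedBy Ω g) = 2) : 2 ∣ Nat.card G := by
  classical
  by_contra hodd
  haveI := htr
  haveI hfin : Finite (fixedBy Ω g) := Subtype.finite
  obtain ⟨⟨a, ha⟩, ⟨b, hb⟩, hab⟩ : ∃ x y : fixedBy Ω g, x ≠ y :=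
    (Finite.one_lt_card_iff_nontrivial.1 (by rw [h2]; norm_num)).exists_pair_ne
  have hab' : a ≠ b := fun h => hab (Subtype.ext h)
  -- a non-trivial element fixing `a` and `b` fixes nothing else
  have honly : ∀ x : G, x ≠ 1 → x • a = a → x • b = b → ∀ c : Ω, x • c = c → c = a ∨ c = b := by
    intro x hx hxa hxb c hc
    by_contra! h
    have h3 : Nat.card ({a, b, c} : Set Ω) = 3 := by
      rw [Nat.card_coe_set_eq, Set.ncard_eq_three]
      exact ⟨a, b, c, hab', h.1.symm, h.2.symm, rfl⟩
    have h4 : Nat.card ({a, b, c} : Set Ω) ≤ Nat.card (fixedBy Ω x) :=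
      Nat.card_mono (Set.toFinite _) fun y hy => by
        rcases hy with rfl | rfl | rfl
        exacts [hxa, hxb, hc]
    have := hfix x hx
    omega
  set C := stabilizer G a ⊓ stabilizer G b with hC
  have hgC : g ∈ C := ⟨ha, hb⟩
  haveI : Nontrivial C := ⟨⟨⟨g, hgC⟩, 1, fun h => hg (congrArg Subtype.val h)⟩⟩
  obtain ⟨q, hq, hqC⟩ := Nat.exists_prime_and_dvd (n := Nat.card C)
    (Finite.one_lt_card (α := C)).ne'
  haveI := Fact.mk hq
  obtain ⟨QC⟩ : Nonempty (Sylow q C) := inferInstance
  set Q : Subgroup G := (QC : Subgroup C).map C.subtype with hQ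
  have hQC : Q ≤ C := Subgroup.map_subtype_le _
  have hQp : IsPGroup q Q := QC.2.map _
  have hQne : Q ≠ ⊥ := by
    rw [hQ, Ne, Subgroup.map_eq_bot_iff_of_injective _ C.subtype_injective]
    exact QC.ne_bot_of_dvd_card hqC
  obtain ⟨⟨x, hxQ⟩, hx'⟩ := Q.ne_bot_iff_exists_ne_one.1 hQne
  have hx : x ≠ 1 := fun h => hx' (Subtype.ext h)
  -- the normalizer of `Q` fixes `a`
  have hN : ∀ h ∈ Subgroup.normalizer (Q : Set G), h ∈ C := by
    intro h hh
    have hfixQ : ∀ c : Ω, (c = a ∨ c = b) → h • c = a ∨ h • c = b := by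
      intro c hc
      refine honly x hx (hQC hxQ).1 (hQC hxQ).2 _ ?_
      have hy : h⁻¹ * x * h ∈ Q := by
        have := (Subgroup.mem_normalizer_iff.1 (inv_mem hh) x).1 hxQ
        rwa [inv_inv] at this
      have hyc : (h⁻¹ * x * h) • c = c := by
        rcases hc with rfl | rfl
        exacts [(hQC hy).1, (hQC hy).2]
      calc x • h • c = h • (h⁻¹ * x * h) • c := by simp [mul_smul]
        _ = h • c := by rw [hyc]
    rcases hfixQ a (Or.inl rfl) with h1 | h1
    · rcases hfixQ b (Or.inr rfl) with h3 | h3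
      · exact absurd (smul_left_cancel h (h3.trans h1.symm)) hab'.symm
      · exact ⟨h1, h3⟩
    · exfalso
      have h3 : h • b = a := by
        rcases hfixQ b (Or.inr rfl) with h3 | h3
        · exact h3
        · exact absurd (smul_left_cancel h (h3.trans h1.symm)) hab'.symm
      -- an element of odd order cannot exchange two points
      have hodd' : Odd (orderOf h) := by
        rcases Nat.even_or_odd (orderOf h) with he | he
        · exact absurd ((even_iff_two_dvd.1 he).trans (orderOf_dvd_natCard h)) hodd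
        · exact he
      obtain ⟨k, hk⟩ := hodd'
      have h4 : ∀ j : ℕ, (h ^ (2 * j)) • a = a := by
        intro j
        induction j with
        | zero => simp
        | succ j ih =>
          rw [show 2 * (j + 1) = 2 * j + 1 + 1 by ring, pow_succ, pow_succ, mul_smul, mul_smul, h1, h3, ih]
      have h5 := pow_orderOf_eq_one h
      rw [hk, pow_succ'] at h5
      have h6 : (h * h ^ (2 * k)) • a = b := by rw [mul_smul, h4, h1]
      rw [h5, one_smul] at h6
      exact hab' h6
  -- hence `Q` is a Sylow subgroup of `G`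
  have hSyl : ∀ R : Subgroup G, IsPGroup q R → Q ≤ R → R = Q := by
    intro R hR hQR
    by_contra hne
    haveI : Group.IsNilpotent R := hR.isNilpotent
    have hlt : Q.subgroupOf R < ⊤ := lt_top_iff_ne_top.2 fun h =>
      hne (le_antisymm (Subgroup.subgroupOf_eq_top.1 h) hQR)
    have hlt' := Group.normalizerCondition_of_isNilpotent _ hlt
    obtain ⟨y, hy, hyn⟩ := SetLike.exists_of_lt hlt'
    have hyN : (y : G) ∈ Subgroup.normalizer (Q : Set G) := by
      rw [Subgroup.mem_normalizer_iff]
      intro z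
      constructor
      · intro hz
        simpa [Subgroup.mem_subgroupOf] using (Subgroup.mem_normalizer_iff.1 hy ⟨z, hQR hz⟩).1 hz
      · intro hz
        have hzR : z ∈ R := by
          have := mul_mem (mul_mem (inv_mem y.2) (hQR hz)) y.2
          simpa [mul_assoc] using this
        simpa [Subgroup.mem_subgroupOf] using (Subgroup.mem_normalizer_iff.1 hy ⟨z, hzR⟩).2 hz
    -- a larger `q`-subgroup inside `C`
    have hle : Q ⊔ Subgroup.zpowers (y : G) ≤ R := sup_le hQR (Subgroup.zpowers_le.2 y.2)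
    have hleC : Q ⊔ Subgroup.zpowers (y : G) ≤ C := sup_le hQC (Subgroup.zpowers_le.2 (hN _ hyN))
    have hp' : IsPGroup q ((Q ⊔ Subgroup.zpowers (y : G)).subgroupOf C) :=
      (hR.to_le hle).of_equiv (Subgroup.subgroupOfEquivOfLe hleC).symm
    have h6 := QC.3 hp' (fun z hz => by
      rw [Subgroup.mem_subgroupOf]
      exact Subgroup.mem_sup_left (Subgroup.mem_map_of_mem C.subtype hz))
    have hymem : (y : G) ∈ Q := by
      have hmem : (⟨y, hN _ hyN⟩ : C) ∈ (Q ⊔ Subgroup.zpowers (y : G)).subgroupOf C :=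
        Subgroup.mem_subgroupOf.2 (Subgroup.mem_sup_right (Subgroup.mem_zpowers _))
      rw [h6] at hmem
      exact Subgroup.mem_map_of_mem C.subtype hmem
    exact hyn hymem
  let QS : Sylow q G := ⟨Q, hQp, fun hR hle => hSyl _ hR hle⟩
  -- a conjugate of `Q` inside the stabilizer of `a`
  obtain ⟨h, hh⟩ := exists_smul_eq G a b
  have hQa : (QS : Subgroup G) ≤ stabilizer G a := hQC.trans inf_le_left
  have hQ'a : ((h⁻¹ • QS : Sylow q G) : Subgroup G) ≤ stabilizer G a := by
    rintro z hz
    rw [Sylow.coe_subgroup_smul, Subgroup.mem_pointwise_smul_iff_inv_smul_mem] at hz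
    have hz' : h * z * h⁻¹ ∈ Q := by simpa [MulAut.smul_def] using hz
    have hzb : (h * z * h⁻¹) • b = b := (hQC hz').2
    show z • a = a
    calc z • a = h⁻¹ • (h * z * h⁻¹) • h • a := by simp [mul_smul]
      _ = h⁻¹ • b := by rw [hh, hzb]
      _ = a := by rw [← hh, inv_smul_smul]
  haveI : Finite (Sylow q (stabilizer G a)) := inferInstance
  obtain ⟨u, hu⟩ := exists_smul_eq (stabilizer G a) (QS.subtype hQa) ((h⁻¹ • QS).subtype hQ'a)
  have hu' : (u : G) • QS = h⁻¹ • QS := Sylow.subtype_injective (by rw [← hu, Sylow.smul_subtype]; rfl)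
  have hmem : h * u ∈ Subgroup.normalizer (Q : Set G) := by
    have : (h * u) • QS = QS := by rw [mul_smul, hu', smul_inv_smul]
    exact Sylow.smul_eq_iff_mem_normalizer.1 this
  have hfa : (h * (u : G)) • a = a := (hN _ hmem).1
  have hua : (u : G) • a = a := u.2
  rw [mul_smul, hua, hh] at hfa
  exact hab' hfa.symm

theorem fixity_large_prime (htr : IsPretransitive G Ω) {k : ℕ}
    (hfix : ∀ g : G, g ≠ 1 → Nat.card (fixedBy Ω g) ≤ k) {p : ℕ} (hp : p.Prime) (hkp : k < p) (α : Ω) :
    ¬ p ∣ Nat.card (stabilizer G α) ∨ ¬ p ∣ (stabilizer G α).index := by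
  classical
  haveI := htr
  by_contra! h
  obtain ⟨h1, h2⟩ := h
  haveI := Fact.mk hp
  rw [index_stabilizer_of_transitive (G := G) α] at h2
  obtain ⟨t, ht⟩ := exists_prime_orderOf_dvd_card' (G := stabilizer G α) p h1
  set P := Subgroup.zpowers (t : G) with hP
  have hto : orderOf (t : G) = p := by rw [Subgroup.orderOf_coe]; exact ht
  have ht1 : (t : G) ≠ 1 := fun h => by rw [h, orderOf_one] at hto; exact hp.one_lt.ne hto
  have hPp : IsPGroup p P := IsPGroup.of_card (n := 1) (by rw [Nat.card_zpowers, hto, pow_one])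
  haveI : Nonempty Ω := ⟨α⟩
  have hmod := hPp.card_modEq_card_fixedPoints Ω
  have hsub : Nat.card (fixedPoints P Ω) ≤ Nat.card (fixedBy Ω (t : G)) :=
    Nat.card_mono (Set.toFinite _) fun y hy => hy ⟨_, Subgroup.mem_zpowers _⟩
  have hpos : 0 < Nat.card (fixedPoints P Ω) := by
    haveI : Nonempty (fixedPoints P Ω) := ⟨⟨α, fun y => by
      have hle : P ≤ stabilizer G α := Subgroup.zpowers_le.2 t.2
      exact hle y.2⟩⟩
    exact Nat.card_pos
  have hdvd : p ∣ Nat.card (fixedPoints P Ω) := (Nat.ModEq.dvd_iff hmod dvd_rfl).1 h2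
  have := Nat.le_of_dvd hpos hdvd
  have := hfix _ ht1
  omega

end CfsgLib.Char
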