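import Mathlib
import Cfsg.Agent.Lib.Invol.Basic

/-!
# Primitive groups with a suborbit of size two
-/

set_option autoImplicit false

namespace CfsgLib.Char

open MulAction

variable {G : Type*} [Group G] [Finite G] {Ω : Type*} [MulAction G Ω] [Finite Ω]

theorem card_stabilizer_eq_two_of_subdegree_two [FaithfulSMul G Ω] (hprim : IsPreprimitive G Ω)
    {a b : Ω} (h2 : Nat.card (orbit (stabilizer G a) b) = 2) : Nat.card (stabilizer G a) = 2 := by
  classical
  haveI := hprim
  haveI : IsPretransitive G Ω := hprim.toIsPretransitive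
  haveI : Nontrivial Ω := by
    haveI : Nontrivial (orbit (stabilizer G a) b) :=
      Finite.one_lt_card_iff_nontrivial.1 (by rw [h2]; norm_num)
    exact Subtype.val_injective.nontrivial (α := orbit (stabilizer G a) b)
  set A := stabilizer G a with hA
  set B := stabilizer G b with hB
  have hne : A ≠ B := by
    intro h
    have hb : ∀ x : A, x • b = b := fun x => by
      have hx : (x : G) ∈ B := h ▸ x.2
      exact hx
    have : orbit A b = {b} := Set.eq_singleton_iff_unique_mem.2
      ⟨mem_orbit_self b, fun y hy => by obtain ⟨x, rfl⟩ := hy; exact hb x⟩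
    rw [this] at h2
    simp at h2
  have hcard : Nat.card A = Nat.card B := by
    have e1 := A.card_mul_index
    have e2 := B.card_mul_index
    rw [hA, index_stabilizer_of_transitive (G := G) a] at e1
    rw [hB, index_stabilizer_of_transitive (G := G) b] at e2
    exact Nat.eq_of_mul_eq_mul_right (Nat.card_pos (α := Ω)) (e1.trans e2.symm)
  set C := A ⊓ B with hC
  have hidxA : (C.subgroupOf A).index = 2 := by
    have he : C.subgroupOf A = stabilizer A b := by
      ext x
      simp [hC, hB, Subgroup.mem_subgroupOf, mem_stabilizer_iff, Subgroup.smul_def]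
    rw [he, index_stabilizer, ← Nat.card_coe_set_eq, h2]
  have hcA : Nat.card C * 2 = Nat.card A := by
    rw [← hidxA, ← Nat.card_congr (Subgroup.subgroupOfEquivOfLe (inf_le_left : C ≤ A)).toEquiv]
    exact Subgroup.card_mul_index _
  have hidxB : (C.subgroupOf B).index = 2 := by
    have := Subgroup.card_mul_index (C.subgroupOf B)
    rw [Nat.card_congr (Subgroup.subgroupOfEquivOfLe (inf_le_right : C ≤ B)).toEquiv, ← hcard, ← hcA] at this
    exact Nat.eq_of_mul_eq_mul_left Nat.card_pos this
  have hAn : A ≤ Subgroup.normalizer (C : Set G) :=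
    (Subgroup.normal_subgroupOf_iff_le_normalizer (inf_le_left : C ≤ A)).1
      (Subgroup.normal_of_index_eq_two hidxA)
  have hBn : B ≤ Subgroup.normalizer (C : Set G) :=
    (Subgroup.normal_subgroupOf_iff_le_normalizer (inf_le_right : C ≤ B)).1
      (Subgroup.normal_of_index_eq_two hidxB)
  have hmax := IsPreprimitive.isCoatom_stabilizer_of_isPreprimitive G a
  have hsup : A ⊔ B = ⊤ := by
    refine hmax.2 _ (lt_of_le_of_ne le_sup_left fun h => hne ?_)
    have hle : B ≤ A := le_sup_right.trans_eq h.symm
    exact (Subgroup.eq_of_le_of_card_ge hle hcard.le).symm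
  haveI hCn : C.Normal := Subgroup.normalizer_eq_top_iff.1 (top_le_iff.1 (hsup ▸ sup_le hAn hBn))
  have hbot : C = ⊥ := by
    rw [Subgroup.eq_bot_iff_forall]
    intro c hc
    refine eq_of_smul_eq_smul (α := Ω) fun ω => ?_
    obtain ⟨g, rfl⟩ := exists_smul_eq G a ω
    have h := hCn.conj_mem c hc g⁻¹
    rw [inv_inv] at h
    have h' : (g⁻¹ * c * g) • a = a := (Subgroup.mem_inf.1 h).1
    rw [one_smul]
    calc c • g • a = g • (g⁻¹ * c * g) • a := by simp [mul_smul]
      _ = g • a := by rw [h']
  rw [← hcA, hbot]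
  simp

theorem dihedral_prime_of_subdegree_two [FaithfulSMul G Ω] (hprim : IsPreprimitive G Ω)
    {a b : Ω} (h2 : Nat.card (orbit (stabilizer G a) b) = 2) :
    ∃ p : ℕ, p.Prime ∧ Nonempty (G ≃* DihedralGroup p) := by
  classical
  haveI := hprim
  haveI : IsPretransitive G Ω := hprim.toIsPretransitive
  haveI : Nontrivial Ω := by
    haveI : Nontrivial (orbit (stabilizer G a) b) :=
      Finite.one_lt_card_iff_nontrivial.1 (by rw [h2]; norm_num)
    exact Subtype.val_injective.nontrivial (α := orbit (stabilizer G a) b)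
  have hc := card_stabilizer_eq_two_of_subdegree_two hprim h2
  set A := stabilizer G a with hA
  have hmax := IsPreprimitive.isCoatom_stabilizer_of_isPreprimitive G a
  obtain ⟨⟨t, htm⟩, ht⟩ := exists_prime_orderOf_dvd_card' (G := A) 2 (by rw [hc])
  have hto : orderOf t = 2 := by rw [← ht]; exact Subgroup.orderOf_coe (⟨t, htm⟩ : A)
  have htA : A = Subgroup.zpowers t :=
    (Subgroup.eq_of_le_of_card_ge (Subgroup.zpowers_le.2 htm) (by rw [Nat.card_zpowers, hto, hc])).symm
  -- a conjugate of `t` outside the point stabilizer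
  obtain ⟨g, hg⟩ : ∃ g : G, g * t * g⁻¹ ∉ A := by
    by_contra! h
    have h1 : ∀ g : G, g * t * g⁻¹ = t := fun g => by
      have h1 := h g
      rw [htA, ← mem_powers_iff_mem_zpowers, Submonoid.mem_powers_iff] at h1
      obtain ⟨k, hk⟩ := h1
      rw [← pow_mod_orderOf, hto] at hk
      rcases Nat.mod_two_eq_zero_or_one k with e | e <;> simp only [e, pow_zero, pow_one] at hk
      · exfalso
        have : t = 1 := conj_eq_one_iff.1 hk.symm
        rw [this, orderOf_one] at hto; norm_num at hto
      · exact hk.symm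
    have hfix : ∀ ω : Ω, t • ω = ω := fun ω => by
      obtain ⟨x, rfl⟩ := exists_smul_eq G a ω
      have hta : t • a = a := htm
      have : t * x = x * t := by
        have := h1 x
        rw [mul_inv_eq_iff_eq_mul] at this
        exact this.symm
      rw [← mul_smul, this, mul_smul, hta]
    have : t = 1 := eq_of_smul_eq_smul (α := Ω) fun ω => by rw [hfix, one_smul]
    rw [this, orderOf_one] at hto; norm_num at hto
  set s := g * t * g⁻¹ with hs
  have hso : orderOf s = 2 := by
    rw [hs, show g * t * g⁻¹ = MulAut.conj g t from (MulAut.conj_apply _ _).symm,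
      MulEquiv.orderOf_eq, hto]
  have htop : Subgroup.closure ({t, s} : Set G) = ⊤ := by
    refine hmax.2 _ (lt_of_le_of_ne ?_ fun h => hg ?_)
    · rw [← hA, htA]; exact Subgroup.zpowers_le.2 (Subgroup.subset_closure (by simp))
    · have : s ∈ Subgroup.closure ({t, s} : Set G) := Subgroup.subset_closure (by simp)
      rw [← hA] at h; rw [h]; exact this
  set n := orderOf (t * s) with hn
  have e : G ≃* DihedralGroup n :=
    (Subgroup.topEquiv.symm.trans (MulEquiv.subgroupCongr htop.symm)).trans
      (CfsgLib.Invol.dihedralEquiv hto hso)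
  refine ⟨n, ?_, ⟨e⟩⟩
  have hn2 : 2 ≤ n := by
    by_contra h
    have hpos : 0 < n := orderOf_pos _
    have h1 : t * s = 1 := orderOf_eq_one_iff.1 (by omega)
    refine hg ?_
    rw [show s = t⁻¹ from eq_inv_of_mul_eq_one_right h1]
    exact inv_mem htm
  by_contra hnp
  obtain ⟨d, hd1, hd2, hd3⟩ := Nat.exists_dvd_of_not_prime2 hn2 hnp
  -- the subgroup generated by `t` and `t * (t * s) ^ d`
  set u := t * (t * s) ^ (d : ℤ) with hu
  have huo : orderOf u = 2 := CfsgLib.Invol.orderOf_reflection hto hso d
  have htu : t * u = (t * s) ^ d := by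
    rw [hu, ← mul_assoc, show t * t = 1 by
      rw [← pow_two, ← hto, pow_orderOf_eq_one], one_mul, zpow_natCast]
  have hcardK := CfsgLib.Invol.card_closure_pair hto huo
  rw [htu, orderOf_pow' _ (by omega), ← hn, Nat.gcd_eq_right hd1] at hcardK
  have hnd : 2 ≤ n / d := by
    have := Nat.div_mul_cancel hd1
    rcases Nat.lt_or_ge (n / d) 2 with h | h
    · interval_cases (n / d) <;> omega
    · exact h
  have hK : Subgroup.closure ({t, u} : Set G) = ⊤ := by
    refine hmax.2 _ (lt_of_le_of_ne ?_ fun h => ?_)
    · rw [← hA, htA]; exact Subgroup.zpowers_le.2 (Subgroup.subset_closure (by simp))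
    · rw [← hA] at h
      rw [← h, hc] at hcardK
      omega
  rw [hK, Subgroup.card_top, Nat.card_congr e.toEquiv, DihedralGroup.nat_card] at hcardK
  have := Nat.div_lt_self (show 0 < n by omega) (show 1 < d by omega)
  omega

end CfsgLib.Char
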